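import Cfsg.Agent.H508.KB.Defs
import Cfsg.Agent.S4551

/-!
# S4822, task C1: the hull acts trivially on the principal block of `S`
-/

set_option autoImplicit false

open Cfsg Subgroup Cfsg.Agent.H508.KB

namespace Cfsg.Agent.H426.KB

universe u

variable {p : ℕ} [Fact p.Prime] {M : Ideal AlgInt}

/-- transport of membership in the principal block along an isomorphism -/
theorem mem_principal_of_equiv {C D : Type*} [Group C] [Group D] (φ : C ≃* D) {θ : IrrCharacter D}
    {θ' : IrrCharacter C} (h : θ ∈ principalBlock M D) (h' : ∀ c : C, (θ' : C → ℂ) c = (θ : D → ℂ) (φ c)) :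
    θ' ∈ principalBlock M C := by
  have hidx : ∀ c : C, (centralizer ({φ c} : Set D)).index = (centralizer ({c} : Set C)).index := by
    intro c
    have h1 : (centralizer ({c} : Set C)).map φ.toMonoidHom = centralizer ({φ c} : Set D) := by
      ext x
      rw [mem_map, mem_centralizer_singleton_iff]
      constructor
      · rintro ⟨y, hy, rfl⟩
        rw [mem_centralizer_singleton_iff] at hy
        change φ y * φ c = φ c * φ y
        rw [← map_mul, hy, map_mul]
      · intro hx
        refine ⟨φ.symm x, ?_, φ.apply_symm_apply x⟩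
        rw [mem_centralizer_singleton_iff]
        apply φ.injective
        rw [map_mul, map_mul, φ.apply_symm_apply, hx]
    rw [← h1]
    exact Subgroup.index_map_equiv _ φ
  intro c
  have h1 := h (φ c)
  have h2 : centralChar (θ : D → ℂ) (φ c) = centralChar (θ' : C → ℂ) c := by
    unfold centralChar
    rw [hidx, h', h' 1, map_one]
  have h3 : centralChar (fun _ : D => (1 : ℂ)) (φ c) = centralChar (fun _ : C => (1 : ℂ)) c := by
    unfold centralChar
    rw [hidx]
  rw [← h2, ← h3]
  exact h1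

theorem subgroupOf_map {A : Type*} [Group A] (S : Subgroup A) (P : Subgroup ↥S) : (P.map S.subtype).subgroupOf S = P := by
  ext x
  rw [mem_subgroupOf, mem_map]
  constructor
  · rintro ⟨y, hy, h⟩
    rw [Subtype.ext h.symm] 
    exact hy
  · intro hx
    exact ⟨x, hx, rfl⟩

variable {A : Type u} [Group A] [Finite A] (S : Subgroup A) [S.Normal]

/-- characters in the principal block of `S` are fixed by `C_A(P)` -/
theorem fixed_of_centralizer (hM : IsPModular p M) (hcop : ¬ p ∣ S.index) (P : Sylow p ↥S)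
    (θ : IrrCharacter ↥S) (hθ : θ ∈ principalBlock M ↥S) (a : A)
    (ha : a ∈ centralizer (((P : Subgroup ↥S).map S.subtype : Subgroup A) : Set A)) (s : ↥S) :
    (θ : ↥S → ℂ) (MulAut.conjNormal a s) = (θ : ↥S → ℂ) s := by
  classical
  set P' : Subgroup A := (P : Subgroup ↥S).map S.subtype with hP'
  have hP'S : P' ≤ S := by
    rintro _ ⟨y, -, rfl⟩
    exact y.2
  set U : Subgroup A := S ⊔ centralizer (P' : Set A) with hU
  have hSU : S ≤ U := le_sup_left
  let φ : ↥(S.subgroupOf U) ≃* ↥S := subgroupOfEquivOfLe hSU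
  have hφ : ∀ x : ↥(S.subgroupOf U), ((φ x : ↥S) : A) = ((x : ↥U) : A) := fun x => rfl
  let PU : Subgroup ↥U := P'.subgroupOf U
  have hpg : IsPGroup p PU := by
    have h1 : IsPGroup p P' := P.isPGroup'.map S.subtype
    exact h1.comap_subtype
  have hidx : ¬ p ∣ PU.index := by
    have h1 : P'.relIndex S * S.relIndex U = P'.relIndex U := relIndex_mul_relIndex P' S U hP'S hSU
    have h2 : P'.relIndex S = (P : Subgroup ↥S).index := by
      unfold relIndex
      rw [subgroupOf_map]
    have h3 : ¬ p ∣ (P : Subgroup ↥S).index := P.not_dvd_index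
    have h4 : ¬ p ∣ S.relIndex U := fun h => hcop (h.trans (relIndex_dvd_index_of_normal S U))
    change ¬ p ∣ P'.relIndex U
    rw [← h1, h2, (Fact.out : p.Prime).dvd_mul]
    exact not_or.2 ⟨h3, h4⟩
  let PS : Sylow p ↥U := hpg.toSylow hidx
  have hcoe : (PS : Subgroup ↥U) = PU := IsPGroup.toSylow_coe hpg hidx
  have hsup : (S.subgroupOf U) ⊔ centralizer ((PS : Subgroup ↥U) : Set ↥U) = ⊤ := by
    rw [eq_top_iff]
    rintro ⟨u, hu⟩ -
    obtain ⟨y, hy, z, hz, rfl⟩ := mem_sup_of_normal_left.1 (hU ▸ hu)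
    have hzU : z ∈ U := (le_sup_right : centralizer (P' : Set A) ≤ U) hz
    have h1 : (⟨y * z, hu⟩ : ↥U) = ⟨y, hSU hy⟩ * ⟨z, hzU⟩ := rfl
    rw [h1]
    refine mul_mem_sup (mem_subgroupOf.2 hy) ?_
    rw [mem_centralizer_iff]
    intro w hw
    rw [hcoe] at hw
    apply Subtype.ext
    exact mem_centralizer_iff.1 hz (w : A) (mem_subgroupOf.1 hw)
  have hidx' : ¬ p ∣ (S.subgroupOf U).index := fun h => hcop (h.trans (relIndex_dvd_index_of_normal S U))
  let θ' : IrrCharacter ↥(S.subgroupOf U) :=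
    ⟨(θ : ↥S → ℂ) ∘ φ.toMonoidHom, Characters.Core.isIrr_comp φ.toMonoidHom φ.surjective θ.2⟩
  have hθ' : θ' ∈ principalBlock M ↥(S.subgroupOf U) := mem_principal_of_equiv φ hθ fun c => rfl
  obtain ⟨χ, ⟨hχ, hres⟩, -⟩ := (S4551.result p M hM (S.subgroupOf U) hidx' PS hsup).2 θ' hθ'
  have haU : a ∈ U := (le_sup_right : centralizer (P' : Set A) ≤ U) ha
  have h1 := hres (φ.symm (MulAut.conjNormal a s))
  have h2 := hres (φ.symm s)
  have h3 : (θ' : ↥(S.subgroupOf U) → ℂ) (φ.symm (MulAut.conjNormal a s)) = (θ : ↥S → ℂ) (MulAut.conjNormal a s) :=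
    congrArg (θ : ↥S → ℂ) (φ.apply_symm_apply _)
  have h4 : (θ' : ↥(S.subgroupOf U) → ℂ) (φ.symm s) = (θ : ↥S → ℂ) s :=
    congrArg (θ : ↥S → ℂ) (φ.apply_symm_apply _)
  rw [← h3, ← h4, ← h1, ← h2]
  have h5 : ((φ.symm (MulAut.conjNormal a s) : ↥(S.subgroupOf U)) : ↥U) =
      ⟨a, haU⟩ * ((φ.symm s : ↥(S.subgroupOf U)) : ↥U) * ⟨a, haU⟩⁻¹ := by
    apply Subtype.ext
    rfl
  rw [h5]
  exact Blocks.Basic.irr_conj χ.2 _ _

/-- the stabilizer of a character -/
def stab (θ : ↥S → ℂ) : Subgroup A where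
  carrier := {a | ∀ s : ↥S, θ (MulAut.conjNormal a s) = θ s}
  one_mem' := fun s => by rw [map_one]; rfl
  mul_mem' := by
    intro a b ha hb s
    change θ (MulAut.conjNormal (a * b) s) = θ s
    rw [map_mul, MulAut.mul_apply, ha, hb]
  inv_mem' := by
    intro a ha s
    change θ (MulAut.conjNormal a⁻¹ s) = θ s
    rw [← ha, ← MulAut.mul_apply, ← map_mul, mul_inv_cancel, map_one]
    rfl

theorem hull_le_stab (hM : IsPModular p M) (hcop : ¬ p ∣ S.index) (θ : IrrCharacter ↥S)
    (hθ : θ ∈ principalBlock M ↥S) : hull p S ≤ stab S (θ : ↥S → ℂ) := by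
  refine sup_le ?_ (iSup_le fun P => fun a ha s => fixed_of_centralizer S hM hcop P θ hθ a ha s)
  intro a ha s
  have h1 : MulAut.conjNormal a s = (⟨a, ha⟩ : ↥S) * s * (⟨a, ha⟩ : ↥S)⁻¹ := Subtype.ext rfl
  rw [h1]
  exact Blocks.Basic.irr_conj θ.2 _ _

/-- counting with a set of singleton classes -/
theorem card_le_of_classes {X : Type*} [Finite X] (r : Setoid X) (m : ℕ)
    (hm : ∀ x : X, Nat.card {y : X // r x y} ≤ m) (F : Finset (Quotient r))
    (hF : ∀ q ∈ F, ∃ x : X, Quotient.mk r x = q ∧ ∀ y, r x y → y = x) :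
    Nat.card X ≤ m * (Nat.card (Quotient r) - F.card) + F.card := by
  classical
  have := Fintype.ofFinite X
  have := Fintype.ofFinite (Quotient r)
  have h1 : Nat.card X = ∑ q : Quotient r, Nat.card {y : X // Quotient.mk r y = q} := by
    rw [← Nat.card_sigma]
    exact Nat.card_congr (Equiv.sigmaFiberEquiv (Quotient.mk r)).symm
  have h2 : ∀ q : Quotient r, Nat.card {y : X // Quotient.mk r y = q} ≤ m := by
    intro q
    obtain ⟨x, rfl⟩ := Quotient.exists_rep q
    refine le_trans (le_of_eq ?_) (hm x)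
    exact Nat.card_congr (Equiv.subtypeEquivRight fun y =>
      ⟨fun h => (Quotient.exact h.symm), fun h => (Quotient.sound h).symm⟩)
  have h3 : ∀ q ∈ F, Nat.card {y : X // Quotient.mk r y = q} ≤ 1 := by
    intro q hq
    obtain ⟨x, rfl, hx⟩ := hF q hq
    have : Subsingleton {y : X // Quotient.mk r y = Quotient.mk r x} :=
      ⟨fun a b => Subtype.ext ((hx _ (Quotient.exact a.2.symm)).trans (hx _ (Quotient.exact b.2.symm)).symm)⟩
    exact Finite.card_le_one_iff_subsingleton.2 this
  rw [h1, ← Finset.sum_add_sum_compl F, add_comm]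
  refine Nat.add_le_add ?_ ?_
  · refine (Finset.sum_le_card_nsmul _ _ m fun q _ => h2 q).trans ?_
    rw [Finset.card_compl, Nat.card_eq_fintype_card, smul_eq_mul, mul_comm]
  · refine (Finset.sum_le_card_nsmul _ _ 1 h3).trans ?_
    rw [smul_eq_mul, mul_one]

/-- an orbit has at most `|A : hull|` elements -/
theorem card_orbit_le (hM : IsPModular p M) (hcop : ¬ p ∣ S.index) (x : principalBlock M ↥S) :
    Nat.card {y : principalBlock M ↥S // (orbSetoid M S) x y} ≤ (hull p S).index := by
  classical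
  have hch : ∀ y : {y : principalBlock M ↥S // (orbSetoid M S) x y}, ∃ a : A, ∀ s : ↥S,
      (y.1.1 : ↥S → ℂ) s = (x.1 : ↥S → ℂ) (MulAut.conjNormal a s) := fun y => y.2
  choose f hf using hch
  refine Nat.card_le_card_of_injective (β := A ⧸ hull p S) (fun y => ((f y)⁻¹ : A)) ?_
  intro y z hyz
  have h1 : (f y)⁻¹⁻¹ * (f z)⁻¹ ∈ hull p S := QuotientGroup.eq.1 hyz
  rw [inv_inv] at h1
  have h2 := hull_le_stab S hM hcop x.1 x.2 h1
  apply Subtype.ext
  apply Subtype.ext
  apply Subtype.ext
  funext s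
  rw [hf y s, hf z s, ← h2 (MulAut.conjNormal (f z) s), ← MulAut.mul_apply, ← map_mul, inv_mul_cancel_right]

/-- the trivial character -/
noncomputable def triv (M : Ideal AlgInt) [M.IsPrime] (H : Type*) [Group H] [Finite H] : principalBlock M H :=
  ⟨⟨fun _ => 1, Blocks.Basic.isIrrCharacter_one⟩, Blocks.PrincipalSection.one_mem_principalBlock⟩

/-- C1 -/
theorem kB_le (hM : IsPModular p M) (hcop : ¬ p ∣ S.index) :
    kB M ↥S ≤ (hull p S).index * (kap M S - 1) + 1 ∧ 1 ≤ kap M S := by
  classical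
  have : M.IsPrime := Blocks.Local.isPrime_of_isPModular hM
  have : Finite (IrrCharacter ↥S) := Characters.Core.finite_irr
  let x : principalBlock M ↥S := triv M ↥S
  have h := card_le_of_classes (orbSetoid M S) (hull p S).index (card_orbit_le S hM hcop)
    {Quotient.mk (orbSetoid M S) x} (by
      intro q hq
      rw [Finset.mem_singleton] at hq
      refine ⟨x, hq.symm, ?_⟩
      rintro y ⟨a, ha⟩
      apply Subtype.ext
      apply Subtype.ext
      funext s
      exact ha s)
  rw [Finset.card_singleton] at h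
  exact ⟨h, Nat.one_le_iff_ne_zero.2 (Nat.card_ne_zero.2 ⟨⟨Quotient.mk _ x⟩, inferInstance⟩)⟩

/-- C1': with a nontrivial character in `B₀(S)` which is fixed by `A` -/
theorem kB_le_of_fixed (hM : IsPModular p M) (hcop : ¬ p ∣ S.index) (θ : IrrCharacter S) (hθ : θ ∈ principalBlock M S)
    (h1 : ∃ s, (θ : S → ℂ) s ≠ 1) (hinv : ∀ (a : A) (s : S), (θ : S → ℂ) (MulAut.conjNormal a s) = (θ : S → ℂ) s) :
    kB M ↥S ≤ (hull p S).index * (kap M S - 2) + 2 ∧ 2 ≤ kap M S := by
  classical
  have : M.IsPrime := Blocks.Local.isPrime_of_isPModular hM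
  have : Finite (IrrCharacter ↥S) := Characters.Core.finite_irr
  let x : principalBlock M ↥S := triv M ↥S
  let y : principalBlock M ↥S := ⟨θ, hθ⟩
  have hx : ∀ z, (orbSetoid M S) x z → z = x := by
    rintro z ⟨a, ha⟩
    apply Subtype.ext
    apply Subtype.ext
    funext s
    exact ha s
  have hy : ∀ z, (orbSetoid M S) y z → z = y := by
    rintro z ⟨a, ha⟩
    apply Subtype.ext
    apply Subtype.ext
    funext s
    rw [ha s]
    exact hinv a s
  have hne : Quotient.mk (orbSetoid M S) x ≠ Quotient.mk (orbSetoid M S) y := by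
    intro h
    have h2 : y = x := hx y (Quotient.exact h)
    obtain ⟨s, hs⟩ := h1
    apply hs
    have h3 : θ = x.1 := congrArg Subtype.val h2
    rw [h3]
    rfl
  have h := card_le_of_classes (orbSetoid M S) (hull p S).index (card_orbit_le S hM hcop)
    {Quotient.mk (orbSetoid M S) x, Quotient.mk (orbSetoid M S) y} (by
      intro q hq
      rw [Finset.mem_insert, Finset.mem_singleton] at hq
      rcases hq with hq | hq
      · exact ⟨x, hq.symm, hx⟩
      · exact ⟨y, hq.symm, hy⟩)
  rw [Finset.card_pair hne] at h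
  refine ⟨h, ?_⟩
  have := Fintype.ofFinite (Quotient (orbSetoid M S))
  have h2 : ({Quotient.mk (orbSetoid M S) x, Quotient.mk (orbSetoid M S) y} : Finset _).card ≤
      Fintype.card (Quotient (orbSetoid M S)) := Finset.card_le_univ _
  rw [Finset.card_pair hne, ← Nat.card_eq_fintype_card] at h2
  exact h2

end Cfsg.Agent.H426.KB
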